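import Cfsg.Agent.S0278

/-!
# S5719, unitary groups: bounds of the order of `SU_n(q)` (helper411)
-/

set_option autoImplicit false

namespace Cfsg.Agent.H411.IFU

open Finset

/-- the factors of the order formula -/
def fac (q i : ℕ) : ℕ := if Even i then q ^ (i + 1) + 1 else q ^ (i + 1) - 1

def DD (q n : ℕ) : ℕ := ∏ i ∈ range n, fac q i

def PP (q n : ℕ) : ℕ := ∏ i ∈ range n, q ^ (i + 1)

theorem DD_succ (q n : ℕ) : DD q (n + 1) = DD q n * fac q n := prod_range_succ _ _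

theorem PP_succ (q n : ℕ) : PP q (n + 1) = PP q n * q ^ (n + 1) := prod_range_succ _ _

theorem PP_eq (q n : ℕ) : PP q n = q ^ (n * (n + 1) / 2) := by
  rw [PP, prod_pow_eq_pow_sum]
  congr 1
  have h := Finset.sum_range_id_mul_two (n + 1)
  rw [sum_range_succ'] at h
  simp only [add_zero] at h
  have h2 : (n + 1) * (n + 1 - 1) = n * (n + 1) := by rw [Nat.add_sub_cancel, mul_comm]
  omega

theorem pair_ge {q a : ℕ} (hq : 2 ≤ q) : q ^ a * q ^ (a + 1) ≤ (q ^ a + 1) * (q ^ (a + 1) - 1) := by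
  have h1 : 1 ≤ q ^ a := Nat.one_le_pow _ _ (by omega)
  have h2 : q ^ (a + 1) = q ^ a * q := pow_succ _ _
  have h3 : q ^ a + 1 ≤ q ^ (a + 1) := by rw [h2]; nlinarith
  obtain ⟨c, hc⟩ := Nat.exists_eq_add_of_le h3
  have h4 : q ^ (a + 1) - 1 = q ^ a + c := by omega
  rw [h4, hc]
  ring_nf
  nlinarith

theorem pair_le {q a : ℕ} (hq : 2 ≤ q) : (q ^ a - 1) * (q ^ (a + 1) + 1) ≤ q ^ a * q ^ (a + 1) := by
  have h1 : 1 ≤ q ^ a := Nat.one_le_pow _ _ (by omega)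
  have h2 : q ^ (a + 1) = q ^ a * q := pow_succ _ _
  obtain ⟨c, hc⟩ := Nat.exists_eq_add_of_le' h1
  rw [h2, hc, Nat.add_sub_cancel]
  nlinarith

theorem DD_ge {q : ℕ} (hq : 2 ≤ q) : ∀ j : ℕ, PP q (2 * j) ≤ DD q (2 * j) ∧ PP q (2 * j + 1) ≤ DD q (2 * j + 1) := by
  intro j
  induction j with
  | zero =>
    refine ⟨le_rfl, ?_⟩
    rw [mul_zero, zero_add, DD, PP, prod_range_one, prod_range_one, fac, if_pos Even.zero]
    omega
  | succ j ih =>
    have h1 : fac q (2 * j) = q ^ (2 * j + 1) + 1 := by rw [fac, if_pos (even_two_mul j)]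
    have h2 : fac q (2 * j + 1) = q ^ (2 * j + 2) - 1 := by
      rw [fac, if_neg (by rw [Nat.even_add_one, not_not]; exact even_two_mul j)]
    have h3 : fac q (2 * (j + 1)) = q ^ (2 * (j + 1) + 1) + 1 := by rw [fac, if_pos (even_two_mul _)]
    have h4 : PP q (2 * (j + 1)) ≤ DD q (2 * (j + 1)) := by
      rw [show 2 * (j + 1) = 2 * j + 1 + 1 by ring, DD_succ, DD_succ, PP_succ, PP_succ, h1, h2, mul_assoc, mul_assoc]
      exact Nat.mul_le_mul ih.1 (pair_ge hq)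
    refine ⟨h4, ?_⟩
    rw [DD_succ, PP_succ, h3]
    exact Nat.mul_le_mul h4 (Nat.le_succ _)

theorem DD_le {q : ℕ} (hq : 2 ≤ q) :
    ∀ j : ℕ, q * DD q (2 * j + 1) ≤ (q + 1) * PP q (2 * j + 1) ∧ q * DD q (2 * j + 2) ≤ (q + 1) * PP q (2 * j + 2) := by
  intro j
  have step : ∀ j : ℕ, q * DD q (2 * j + 1) ≤ (q + 1) * PP q (2 * j + 1) → q * DD q (2 * j + 2) ≤ (q + 1) * PP q (2 * j + 2) := by
    intro j h
    have h2 : fac q (2 * j + 1) = q ^ (2 * j + 2) - 1 := by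
      rw [fac, if_neg (by rw [Nat.even_add_one, not_not]; exact even_two_mul j)]
    rw [DD_succ, PP_succ, h2, ← mul_assoc, ← mul_assoc]
    exact Nat.mul_le_mul h (Nat.sub_le _ _)
  induction j with
  | zero =>
    refine ⟨?_, step 0 ?_⟩ <;>
    · rw [mul_zero, zero_add, DD, PP, prod_range_one, prod_range_one, fac, if_pos Even.zero, pow_one, mul_comm]
  | succ j ih =>
    have h2 : fac q (2 * j + 1) = q ^ (2 * j + 2) - 1 := by
      rw [fac, if_neg (by rw [Nat.even_add_one, not_not]; exact even_two_mul j)]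
    have h3 : fac q (2 * j + 2) = q ^ (2 * j + 3) + 1 := by
      rw [fac, if_pos (by exact ⟨j + 1, by ring⟩)]
    have h4 : q * DD q (2 * (j + 1) + 1) ≤ (q + 1) * PP q (2 * (j + 1) + 1) := by
      rw [show 2 * (j + 1) + 1 = 2 * j + 1 + 1 + 1 by ring, DD_succ, DD_succ, PP_succ, PP_succ,
        show 2 * j + 1 + 1 = 2 * j + 2 by ring, h2, h3]
      have h5 := Nat.mul_le_mul ih.1 (pair_le (q := q) (a := 2 * j + 2) hq)
      calc _ = q * DD q (2 * j + 1) * ((q ^ (2 * j + 2) - 1) * (q ^ (2 * j + 2 + 1) + 1)) := by ring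
        _ ≤ (q + 1) * PP q (2 * j + 1) * (q ^ (2 * j + 2) * q ^ (2 * j + 2 + 1)) := h5
        _ = _ := by ring
    exact ⟨h4, step _ h4⟩

theorem two_le_q {F : Type*} [Field F] [Fintype F] {q : ℕ} (hF : Fintype.card F = q ^ 2) : 2 ≤ q := by
  have h1 := Fintype.one_lt_card (α := F)
  rw [hF] at h1
  by_contra h
  have : q = 0 ∨ q = 1 := by omega
  rcases this with rfl | rfl <;> simp at h1

theorem exp_eq (n : ℕ) (hn : 1 ≤ n) : n * (n - 1) / 2 + n * (n + 1) / 2 = n ^ 2 := by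
  obtain ⟨m, rfl⟩ := Nat.exists_eq_add_of_le' hn
  rw [Nat.add_sub_cancel]
  have h1 : (m + 1) * m % 2 = 0 := by
    rw [mul_comm]
    exact Nat.even_iff.mp (Nat.even_mul_succ_self m)
  have h2 : (m + 1) * (m + 1 + 1) % 2 = 0 := Nat.even_iff.mp (Nat.even_mul_succ_self (m + 1))
  have h3 : (m + 1) * m + (m + 1) * (m + 1 + 1) = 2 * (m + 1) ^ 2 := by ring
  omega

/-- `q ^ (n ^ 2) ≤ (q + 1) |SU_n(q)|` -/
theorem le_card_SU {F : Type*} [Field F] [Fintype F] {q : ℕ} (hF : Fintype.card F = q ^ 2) {n : ℕ} (hn : 1 ≤ n) :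
    q ^ (n ^ 2) ≤ (q + 1) * Nat.card (SU n F q) := by
  rw [S0278.result hF n hn, ← exp_eq n hn, pow_add, ← PP_eq]
  apply Nat.mul_le_mul_left
  change PP q n ≤ DD q n
  obtain ⟨j, rfl | rfl⟩ := Nat.even_or_odd' n
  · exact (DD_ge (two_le_q hF) j).1
  · exact (DD_ge (two_le_q hF) j).2

/-- `|SU_n(q)| ≤ q ^ (n ^ 2 - 1)` -/
theorem card_SU_le {F : Type*} [Field F] [Fintype F] {q : ℕ} (hF : Fintype.card F = q ^ 2) {n : ℕ} (hn : 1 ≤ n) :
    Nat.card (SU n F q) ≤ q ^ (n ^ 2 - 1) := by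
  have hq := two_le_q hF
  have h1 : q * ((q + 1) * Nat.card (SU n F q)) ≤ (q + 1) * q ^ (n ^ 2) := by
    rw [S0278.result hF n hn, ← exp_eq n hn, pow_add, ← PP_eq]
    have h2 : q * DD q n ≤ (q + 1) * PP q n := by
      obtain ⟨j, rfl | rfl⟩ := Nat.even_or_odd' n
      · obtain ⟨i, rfl⟩ := Nat.exists_eq_add_of_le' (show 1 ≤ j by omega)
        exact (DD_le hq i).2
      · exact (DD_le hq j).1
    calc q * (q ^ (n * (n - 1) / 2) * DD q n) = q ^ (n * (n - 1) / 2) * (q * DD q n) := by ring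
      _ ≤ q ^ (n * (n - 1) / 2) * ((q + 1) * PP q n) := Nat.mul_le_mul_left _ h2
      _ = (q + 1) * (q ^ (n * (n - 1) / 2) * PP q n) := by ring
  have h3 : q ^ (n ^ 2) = q * q ^ (n ^ 2 - 1) := by
    rw [← pow_succ']
    congr 1
    have : 1 ≤ n ^ 2 := Nat.one_le_pow _ _ hn
    omega
  rw [h3] at h1
  have h4 : (q * (q + 1)) * Nat.card (SU n F q) ≤ (q * (q + 1)) * q ^ (n ^ 2 - 1) := by
    calc (q * (q + 1)) * Nat.card (SU n F q) = q * ((q + 1) * Nat.card (SU n F q)) := by ring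
      _ ≤ (q + 1) * (q * q ^ (n ^ 2 - 1)) := h1
      _ = _ := by ring
  exact Nat.le_of_mul_le_mul_left h4 (by positivity)

/-- **the numbers** (`q` odd) -/
theorem numbers {q k M P G C : ℕ} (hq : 3 ≤ q) (hk : 1 ≤ k) (hM : 1 ≤ M) (hn : 5 ≤ k + M)
    (hP : q ^ (k ^ 2 / 4 + M ^ 2 / 4) ≤ P) (hC : q ^ (k ^ 2 + M ^ 2) ≤ (q + 1) ^ 2 * C) (hG : G ≤ q ^ ((k + M) ^ 2 - 1))
    (h : P ^ 5 * C < G) : False := by
  have h1 : 2 * k * M + 2 ≤ 5 * (k ^ 2 / 4 + M ^ 2 / 4) := by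
    have a1 : k ^ 2 ≤ 4 * (k ^ 2 / 4) + 1 := by
      obtain ⟨j, rfl | rfl⟩ := Nat.even_or_odd' k
      · have : (2 * j) ^ 2 = 4 * j ^ 2 := by ring
        omega
      · have : (2 * j + 1) ^ 2 = 4 * (j ^ 2 + j) + 1 := by ring
        omega
    have a2 : M ^ 2 ≤ 4 * (M ^ 2 / 4) + 1 := by
      obtain ⟨j, rfl | rfl⟩ := Nat.even_or_odd' M
      · have : (2 * j) ^ 2 = 4 * j ^ 2 := by ring
        omega
      · have : (2 * j + 1) ^ 2 = 4 * (j ^ 2 + j) + 1 := by ring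
        omega
    by_cases hs : k + M ≤ 8
    · have hk8 : k ≤ 7 := by omega
      have hM8 : M ≤ 7 := by omega
      clear hP hC hG h a1 a2
      interval_cases k <;> interval_cases M <;> first | omega | norm_num
    · have a3 : 5 * k ^ 2 + 5 * M ^ 2 ≥ 8 * (k * M) + 18 := by
        rcases Nat.lt_or_ge (k * M) 9 with h9 | h9
        · nlinarith [sq_nonneg ((k : ℤ) - M)]
        · have : (0 : ℤ) ≤ ((k : ℤ) - M) ^ 2 := sq_nonneg _
          zify
          zify at h9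
          nlinarith
      nlinarith
  have h2 : (q + 1) ^ 2 ≤ q ^ 3 := by nlinarith
  have h3 : q ^ (k ^ 2 + M ^ 2) * q ^ (5 * (k ^ 2 / 4 + M ^ 2 / 4)) ≤ (q + 1) ^ 2 * C * P ^ 5 := by
    refine Nat.mul_le_mul hC ?_
    rw [mul_comm 5, pow_mul]
    exact Nat.pow_le_pow_left hP 5
  have h4 : (q + 1) ^ 2 * C * P ^ 5 < q ^ 3 * q ^ ((k + M) ^ 2 - 1) := by
    calc (q + 1) ^ 2 * C * P ^ 5 = (q + 1) ^ 2 * (P ^ 5 * C) := by ring
      _ < (q + 1) ^ 2 * G := Nat.mul_lt_mul_of_pos_left h (by positivity)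
      _ ≤ q ^ 3 * q ^ ((k + M) ^ 2 - 1) := Nat.mul_le_mul h2 hG
  have h5 := lt_of_le_of_lt h3 h4
  rw [← pow_add, ← pow_add] at h5
  have h6 := (Nat.pow_lt_pow_iff_right (by omega : 1 < q)).mp h5
  have h7 : (k + M) ^ 2 = k ^ 2 + M ^ 2 + 2 * k * M := by ring
  have h8 : 1 ≤ (k + M) ^ 2 := Nat.one_le_pow _ _ (by omega)
  omega

end Cfsg.Agent.H411.IFU
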